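/-
Elements of an affine blow-up algebra are fractions `x / π^n` with `x ∈ I^n`.
-/
import Groth.Prelude.Def_BlowUp2
import Mathlib

set_option autoImplicit false

universe u

namespace Groth.Agent.BlowAlg3

variable {A : Type u} [CommRing A] {I : Ideal A} {π : A}

/-- `x / π^n`. -/
noncomputable def frac (π : A) (n : ℕ) (x : A) : Localization.Away π :=
  IsLocalization.mk' (Localization.Away π) x ⟨π ^ n, pow_mem (Submonoid.mem_powers π) n⟩

theorem mem_iff (hπ : π ∈ I) (q : Localization.Away π) :
    q ∈ BlowUp.affineAlgebra A I π ↔ ∃ n, ∃ x ∈ I ^ n, q = frac π n x := by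
  constructor
  · intro hq
    induction hq using Algebra.adjoin_induction with
    | mem z hz =>
      obtain ⟨x, hx, rfl⟩ := hz
      exact ⟨1, x, by rwa [pow_one], by rw [frac]; congr 1; exact Subtype.ext (pow_one π).symm⟩
    | algebraMap a =>
      refine ⟨0, a, by simp, ?_⟩
      rw [frac, show (⟨π ^ 0, pow_mem (Submonoid.mem_powers π) 0⟩ : Submonoid.powers π) = 1 from Subtype.ext (pow_zero π), IsLocalization.mk'_one]
    | add y z _ _ hy hz =>
      obtain ⟨n, x, hx, rfl⟩ := hy
      obtain ⟨m, w, hw, rfl⟩ := hz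
      refine ⟨n + m, x * π ^ m + w * π ^ n, ?_, ?_⟩
      · rw [pow_add]
        refine add_mem (Ideal.mul_mem_mul hx (Ideal.pow_mem_pow hπ m)) ?_
        rw [mul_comm w]
        exact Ideal.mul_mem_mul (Ideal.pow_mem_pow hπ n) hw
      · rw [frac, frac, frac, ← IsLocalization.mk'_add]
        congr 1
        exact Subtype.ext (pow_add π n m).symm
    | mul y z _ _ hy hz =>
      obtain ⟨n, x, hx, rfl⟩ := hy
      obtain ⟨m, w, hw, rfl⟩ := hz
      refine ⟨n + m, x * w, by rw [pow_add]; exact Ideal.mul_mem_mul hx hw, ?_⟩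
      rw [frac, frac, frac, ← IsLocalization.mk'_mul]
      congr 1
      exact Subtype.ext (pow_add π n m).symm
  · rintro ⟨n, x, hx, rfl⟩
    induction n generalizing x with
    | zero =>
      rw [frac, show (⟨π ^ 0, pow_mem (Submonoid.mem_powers π) 0⟩ : Submonoid.powers π) = 1 from Subtype.ext (pow_zero π), IsLocalization.mk'_one]
      exact Subalgebra.algebraMap_mem _ _
    | succ m ih =>
      rw [pow_succ] at hx
      refine Submodule.mul_induction_on hx (fun y hy z hz => ?_) (fun y z hy hz => ?_)
      · have : frac π (m + 1) (y * z) =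
            frac π m y * IsLocalization.mk' (Localization.Away π) z ⟨π, Submonoid.mem_powers π⟩ := by
          rw [frac, frac, ← IsLocalization.mk'_mul]; congr 1; exact Subtype.ext (pow_succ π m)
        rw [this]
        exact mul_mem (ih y hy) (Algebra.subset_adjoin ⟨z, hz, rfl⟩)
      · have : frac π (m + 1) (y + z) = frac π (m + 1) y + frac π (m + 1) z := by
          rw [frac, frac, frac, IsLocalization.mk'_eq_iff_eq_mul, add_mul, IsLocalization.mk'_spec,
            IsLocalization.mk'_spec, map_add]
        rw [this]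
        exact add_mem hy hz

theorem awayMap_frac {B : Type u} [CommRing B] (f : A →+* B) (n : ℕ) (x : A) :
    Localization.awayMap f π (frac π n x) = frac (f π) n (f x) := by
  rw [frac, frac, Localization.awayMap, IsLocalization.Away.map, IsLocalization.map_mk']
  congr 1
  exact Subtype.ext (map_pow f π n)

theorem frac_eq_zero_iff (n : ℕ) (x : A) : frac π n x = 0 ↔ ∃ m, π ^ m * x = 0 := by
  rw [frac, IsLocalization.mk'_eq_zero_iff]
  exact ⟨fun ⟨⟨_, m, rfl⟩, h⟩ => ⟨m, h⟩, fun ⟨m, h⟩ => ⟨⟨_, m, rfl⟩, h⟩⟩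

theorem pow_mul_frac (n : ℕ) (x : A) :
    algebraMap A (Localization.Away π) (π ^ n) * frac π n x = algebraMap A (Localization.Away π) x :=
  IsLocalization.mk'_spec' (Localization.Away π) x ⟨π ^ n, pow_mem (Submonoid.mem_powers π) n⟩

end Groth.Agent.BlowAlg3
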